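import Cfsg.Agent.OddHalf.D4.Spor.Row
import Cfsg.Agent.OddHalf.D4.TwE.Inst

/-!
# ODD half, D4: the row of `²E₆(2)`
-/

set_option autoImplicit false

namespace Cfsg.Agent.OddHalf.D4.TwE.Row

open Cfsg.Agent.OddHalf.D4

universe u

/-- **D4, the row of `²E₆(2)`.** -/
theorem e6t2 (h1173 : Start.P1173.{u}) (hFT : Spor.FTT.{u}) (hse : Spor.PSE.{u}) :
    Cut.Row1.{u} (fun K _ => Cut.E6t2 K) :=
  Spor.row_of_sheet h1173 hFT hse fun X _ _ _ hX => by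
    obtain ⟨F, _, _, hF, ⟨e⟩⟩ := hX
    exact Inst.sheet_of_equiv hF e

end Cfsg.Agent.OddHalf.D4.TwE.Row
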