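import Cfsg.Agent.OddHalf.D4.Spor.LargeBad
import Cfsg.Agent.OddHalf.D4.Spor.OfBasic
import Cfsg.Agent.StdEven.Syl
import Cfsg.Agent.Transfer.PGroupNormal

/-!
# ODD half, D4: the sheet of a group with a large extraspecial subgroup generated by root involutions

`Large Q z`; `T` a characteristic class of involutions ("roots"). For an involution `w ∈ Q`, `w ≠ z`, suppose that
`C_Q(w)` is generated by the roots `y` with `y w` not a root (`Gen`). Then

* `not_bad`: `Bad w N` is impossible;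
* `out2`: an involutory automorphism which fixes or multiplies by `w` every element of `C(w)` is inner.
-/

set_option autoImplicit false
set_option linter.unusedSectionVars false

namespace Cfsg.Agent.OddHalf.D4.TwE.Core

open Subgroup Cfsg.Agent.Co2Type.Quad Cfsg.Agent.OddHalf.D4.Spor Cfsg.Agent.OddHalf.D8

variable {X : Type*} [Group X] {Q : Subgroup X} {z w : X} {T : Set X}

/-! ### Two-groups -/

theorem isPGroup (h : Large Q z) : IsPGroup 2 Q := by
  intro x
  refine ⟨2, Subtype.ext ?_⟩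
  show (x : X) ^ 2 ^ 2 = 1
  have e : (x : X) ^ 2 ^ 2 = ((x : X) * x) * ((x : X) * x) := by
    rw [show (2 : ℕ) ^ 2 = 2 + 2 by norm_num, pow_add, pow_two]
  rw [e]
  rcases h.sq x x.2 with h1 | h1
  · rw [h1, one_mul]
  · rw [h1, h.z_sq]

/-- A normal subgroup `V` of a 2-group `S`, of order divisible by 4 and containing the central involution `w`, contains
an element `v ≠ 1, w` whose conjugates are `v`, `w v`. -/
theorem exists_four [Finite X] {S V : Subgroup X} (hS : IsPGroup 2 S) (hVS : V ≤ S)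
    (hn : ∀ s ∈ S, ∀ v ∈ V, s * v * s⁻¹ ∈ V) (hw : w ∈ V) (hww : w * w = 1) (hw1 : w ≠ 1)
    (hwc : ∀ s ∈ S, s * w = w * s) (h4 : 4 ∣ Nat.card V) :
    ∃ v ∈ V, v ≠ 1 ∧ v ≠ w ∧ ∀ s ∈ S, s * v * s⁻¹ = v ∨ s * v * s⁻¹ = w * v := by
  have : Fact (Nat.Prime 2) := ⟨Nat.prime_two⟩
  have hNn : (zpowers (⟨w, hVS hw⟩ : ↥S)).Normal := by
    constructor
    intro x hx g
    obtain ⟨k, rfl⟩ := mem_zpowers_iff.1 hx
    have h1 : Commute g (⟨w, hVS hw⟩ : ↥S) := Subtype.ext (hwc g g.2)
    rw [(h1.zpow_right k).eq, mul_inv_cancel_right]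
    exact hx
  have hVn : (V.subgroupOf S).Normal := by
    constructor
    intro x hx g
    exact mem_subgroupOf.2 (hn g g.2 x (mem_subgroupOf.1 hx))
  have hle : zpowers (⟨w, hVS hw⟩ : ↥S) ≤ V.subgroupOf S := by
    rw [zpowers_le, mem_subgroupOf]
    exact hw
  have ho : orderOf (⟨w, hVS hw⟩ : ↥S) = 2 := by
    apply orderOf_eq_prime
    · rw [pow_two]; exact Subtype.ext hww
    · exact fun h => hw1 (congrArg Subtype.val h)
  have hc1 : Nat.card ↥(zpowers (⟨w, hVS hw⟩ : ↥S)) = 2 := by rw [Nat.card_zpowers, ho]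
  have hc2 : Nat.card ↥(V.subgroupOf S) = Nat.card V := Nat.card_congr (subgroupOfEquivOfLe hVS).toEquiv
  obtain ⟨M, hM, h1, h2, h3⟩ := Cfsg.Agent.Transfer.PGroupNormal.exists_normal_between hS hNn hVn hle (k := 2)
    (by rw [hc1]; norm_num) (by rw [hc2]; exact Nat.le_of_dvd Nat.card_pos h4)
  -- an element of `M` outside `⟨w⟩`
  have hlt : ∃ v ∈ M, v ≠ 1 ∧ v ≠ (⟨w, hVS hw⟩ : ↥S) := by
    by_contra hcon
    push Not at hcon
    have h5 : M ≤ zpowers (⟨w, hVS hw⟩ : ↥S) := by
      intro v hv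
      by_cases hv1 : v = 1
      · rw [hv1]; exact one_mem _
      · rw [hcon v hv hv1]; exact mem_zpowers _
    have h6 := card_le_of_le h5
    rw [h3, hc1] at h6
    norm_num at h6
  obtain ⟨v, hvM, hv1, hvw⟩ := hlt
  have hwM : (⟨w, hVS hw⟩ : ↥S) ∈ M := h1 (mem_zpowers _)
  refine ⟨v, mem_subgroupOf.1 (h2 hvM), fun h => hv1 (Subtype.ext h), fun h => hvw (Subtype.ext h), ?_⟩
  -- `M = {1, w, v, w v}`
  have hall : ∀ x ∈ M, x = 1 ∨ x = ⟨w, hVS hw⟩ ∨ x = v ∨ x = ⟨w, hVS hw⟩ * v := by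
    intro x hx
    by_contra hcon
    push Not at hcon
    obtain ⟨e1, e2, e3, e4⟩ := hcon
    -- the quotient `M / ⟨w⟩` has order 2
    have h7 : ((zpowers (⟨w, hVS hw⟩ : ↥S)).subgroupOf M).index = 2 := by
      have h8 := ((zpowers (⟨w, hVS hw⟩ : ↥S)).subgroupOf M).card_mul_index
      rw [Nat.card_congr (subgroupOfEquivOfLe h1).toEquiv, hc1, h3] at h8
      omega
    have h9 : (⟨x, hx⟩ : ↥M) * (⟨v, hvM⟩ : ↥M)⁻¹ ∈ (zpowers (⟨w, hVS hw⟩ : ↥S)).subgroupOf M := by
      have hmem : ∀ y : ↥M, y ∈ (zpowers (⟨w, hVS hw⟩ : ↥S)).subgroupOf M ↔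
          (y : ↥S) = 1 ∨ (y : ↥S) = ⟨w, hVS hw⟩ := by
        intro y
        rw [mem_subgroupOf]
        constructor
        · intro hy
          obtain ⟨k, hk⟩ := mem_zpowers_iff.1 hy
          rcases Int.even_or_odd' k with ⟨m, rfl | rfl⟩
          · left
            rw [← hk, zpow_mul]
            have : (⟨w, hVS hw⟩ : ↥S) ^ (2 : ℤ) = 1 := by
              rw [show (2 : ℤ) = 1 + 1 by norm_num, zpow_add, zpow_one]
              exact Subtype.ext hww
            rw [this, one_zpow]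
          · right
            rw [← hk, zpow_add, zpow_one, zpow_mul]
            have : (⟨w, hVS hw⟩ : ↥S) ^ (2 : ℤ) = 1 := by
              rw [show (2 : ℤ) = 1 + 1 by norm_num, zpow_add, zpow_one]
              exact Subtype.ext hww
            rw [this, one_zpow, one_mul]
        · rintro (hy | hy)
          · rw [hy]; exact one_mem _
          · rw [hy]; exact mem_zpowers _
      have hx' : (⟨x, hx⟩ : ↥M) ∉ (zpowers (⟨w, hVS hw⟩ : ↥S)).subgroupOf M := fun h =>
        ((hmem _).1 h).elim e1 e2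
      have hv' : (⟨v, hvM⟩ : ↥M)⁻¹ ∉ (zpowers (⟨w, hVS hw⟩ : ↥S)).subgroupOf M := fun h =>
        ((hmem _).1 (inv_mem_iff.1 h)).elim hv1 hvw
      rw [mul_mem_iff_of_index_two h7]
      exact ⟨fun h => absurd h hx', fun h => absurd h hv'⟩
    rw [mem_subgroupOf] at h9
    obtain ⟨k, hk⟩ := mem_zpowers_iff.1 h9
    have h10 : x = (⟨w, hVS hw⟩ : ↥S) ^ k * v := by
      rw [hk]
      show x = x * v⁻¹ * v
      rw [inv_mul_cancel_right]
    have hsq : (⟨w, hVS hw⟩ : ↥S) ^ (2 : ℤ) = 1 := by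
      rw [show (2 : ℤ) = 1 + 1 by norm_num, zpow_add, zpow_one]
      exact Subtype.ext hww
    rcases Int.even_or_odd' k with ⟨m, rfl | rfl⟩
    · apply e3
      rw [h10, zpow_mul, hsq, one_zpow, one_mul]
    · apply e4
      rw [h10, zpow_add, zpow_one, zpow_mul, hsq, one_zpow, one_mul]
  intro s hs
  rcases hall _ (hM.conj_mem v hvM ⟨s, hs⟩) with h5 | h5 | h5 | h5
  · exfalso
    apply hv1
    rw [mul_inv_eq_one] at h5
    exact mul_eq_left.1 h5
  · exfalso
    apply hvw
    have h6 : v = (⟨s, hs⟩ : ↥S)⁻¹ * ⟨w, hVS hw⟩ * ⟨s, hs⟩ := by rw [← h5]; group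
    rw [h6]
    have h7 : (⟨s, hs⟩ : ↥S) * ⟨w, hVS hw⟩ = ⟨w, hVS hw⟩ * ⟨s, hs⟩ := Subtype.ext (hwc s hs)
    rw [mul_assoc, ← h7, inv_mul_cancel_left]
  · exact Or.inl (congrArg Subtype.val h5)
  · exact Or.inr (congrArg Subtype.val h5)

/-! ### The hypotheses -/

/-- The roots of `Q` commuting with `w` whose product with `w` is not a root. -/
def YY (Q : Subgroup X) (T : Set X) (w : X) : Set X := {y | y ∈ T ∧ y ∈ Q ∧ y * w = w * y ∧ y * w ∉ T}

/-- The centraliser of the involution `w` in `Q` is generated by `w`, `z` and the roots `y` such that `y w` is not a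
root; `z w` is not a root. -/
structure Gen (Q : Subgroup X) (z : X) (T : Set X) (w : X) : Prop where
  mem : w ∈ Q
  sq : w * w = 1
  ne : w ≠ 1
  nez : w ≠ z
  zw : z * w ∉ T
  gen : ∀ x ∈ Q, x * w = w * x → x ∈ closure (YY Q T w ∪ {w, z})

/-- An automorphism preserving `Q`, trivial on `C_Q(w)`, is on `Q` trivial or the conjugation by `w`. -/
theorem aut_on_Q (h : Large Q z) (α : MulAut X) (hz : α z = z) (hαQ : ∀ x ∈ Q, α x ∈ Q) (hw : w ∈ Q)
    (hww : w * w = 1) (hw1 : w ≠ 1) (hwz : w ≠ z) (hα : ∀ x ∈ Q, x * w = w * x → α x = x) :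
    (∀ x ∈ Q, α x = x) ∨ ∀ x ∈ Q, α x = w * x * w⁻¹ := by
  -- the difference
  have key : ∀ x ∈ Q, x * w ≠ w * x → α x = x ∨ α x = x * z := by
    intro x hx hxw
    have hd : x⁻¹ * α x ∈ Q := Q.mul_mem (Q.inv_mem hx) (hαQ x hx)
    have hdc : ∀ y ∈ Q, y * w = w * y → y * (x⁻¹ * α x) = (x⁻¹ * α x) * y := by
      intro y hy hyw
      have hy' := hα y hy hyw
      rcases h.comm y hy x hx with e | e
      · -- `y` commutes with `x`
        have e2 : y * α x = α x * y := by
          have := congrArg α e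
          rwa [map_mul, map_mul, hy'] at this
        have e3 : y * x⁻¹ = x⁻¹ * y := by
          rw [eq_inv_mul_iff_mul_eq, ← mul_assoc, ← e, mul_inv_cancel_right]
        rw [← mul_assoc, e3, mul_assoc, e2, mul_assoc]
      · have e2 : y * α x = α x * y * z := by
          have := congrArg α e
          rwa [map_mul, map_mul, map_mul, hy', hz] at this
        have e3 : y * x⁻¹ = x⁻¹ * y * z := by
          have e4 : x⁻¹ * y * x = y * z := by
            calc x⁻¹ * y * x = x⁻¹ * (x * y * z) := by rw [mul_assoc, e]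
              _ = y * z := by group
          calc y * x⁻¹ = (y * z) * z * x⁻¹ := by rw [mul_assoc y z z, h.z_sq, mul_one]
            _ = (x⁻¹ * y * x) * z * x⁻¹ := by rw [e4]
            _ = x⁻¹ * y * (x * z) * x⁻¹ := by group
            _ = x⁻¹ * y * (z * x) * x⁻¹ := by rw [h.comm_z x hx]
            _ = x⁻¹ * y * z := by group
        have hzx : z * α x = α x * z := (h.comm_z _ (hαQ x hx)).symm
        calc y * (x⁻¹ * α x) = (y * x⁻¹) * α x := by group
          _ = x⁻¹ * y * (z * α x) := by rw [e3]; group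
          _ = x⁻¹ * (y * α x) * z := by rw [hzx]; group
          _ = x⁻¹ * α x * y * (z * z) := by rw [e2]; group
          _ = x⁻¹ * α x * y := by rw [h.z_sq, mul_one]
    by_cases hd1 : x⁻¹ * α x = 1
    · left
      exact (inv_mul_eq_one.1 hd1).symm
    by_cases hdz : x⁻¹ * α x = z
    · right
      rw [← hdz, mul_inv_cancel_left]
    exfalso
    -- `d = w` or `d = w z`
    have hne : α x * α x = x * x := by
      rw [← map_mul]
      rcases h.sq x hx with e | e
      · rw [e, map_one]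
      · rw [e, hz]
    have hxw' : x * w = w * x * z := (h.comm x hx w hw).resolve_left hxw
    have hsq : (x * w) * (x * w) = (x * x) * z := by
      calc (x * w) * (x * w) = x * (w * x) * w := by group
        _ = x * ((w * x * z) * z) * w := by rw [mul_assoc (w * x) z z, h.z_sq, mul_one]
        _ = x * (x * w * z) * w := by rw [hxw']
        _ = x * x * w * (z * w) := by group
        _ = x * x * w * (w * z) := by rw [h.comm_z w hw]
        _ = x * x * (w * w) * z := by group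
        _ = (x * x) * z := by rw [hww, mul_one]
    have hcon : ∀ c : X, c = 1 ∨ c = z → x⁻¹ * α x = c * w → False := by
      intro c hc e
      have hcz : c * c = 1 ∧ (∀ y ∈ Q, c * y = y * c) := by
        rcases hc with rfl | rfl
        · exact ⟨one_mul 1, fun y _ => by rw [one_mul, mul_one]⟩
        · exact ⟨h.z_sq, fun y hy => (h.comm_z y hy).symm⟩
      have e1 : α x = c * (x * w) := by
        have e2 : α x = x * (c * w) := by rw [← e, mul_inv_cancel_left]
        rw [e2, ← mul_assoc, ← hcz.2 x hx, mul_assoc]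
      have e3 : α x * α x = (x * x) * z := by
        rw [e1]
        calc c * (x * w) * (c * (x * w)) = c * ((x * w) * c) * (x * w) := by group
          _ = c * (c * (x * w)) * (x * w) := by rw [hcz.2 _ (Q.mul_mem hx hw)]
          _ = (c * c) * ((x * w) * (x * w)) := by group
          _ = x * x * z := by rw [hcz.1, one_mul, hsq]
      rw [hne] at e3
      exact h.z_ne (left_eq_mul.1 e3)
    rcases LargeBad.eq_of_cent h hw hd hd1 hdz (fun t ht htw => hdc t ht htw) with e | e
    · exact hcon 1 (Or.inl rfl) (by rw [one_mul]; exact mul_inv_eq_one.1 e)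
    · exact hcon z (Or.inr rfl) (by rw [← e, inv_mul_cancel_right])
  -- some `x₀` does not commute with `w`
  have hex : ∃ x₀ ∈ Q, x₀ * w ≠ w * x₀ := by
    by_contra hcon
    push Not at hcon
    rcases h.cent w hw (fun y hy => (hcon y hy).symm) with e | e
    · exact hw1 e
    · exact hwz e
  obtain ⟨x₀, hx₀, hn₀⟩ := hex
  have hcos : ∀ x ∈ Q, x * w ≠ w * x → α (x₀⁻¹ * x) = x₀⁻¹ * x := by
    intro x hx hn
    have hn' : x₀⁻¹ * w ≠ w * x₀⁻¹ := by
      intro e
      apply hn₀
      calc x₀ * w = x₀ * (w * x₀⁻¹) * x₀ := by group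
        _ = x₀ * (x₀⁻¹ * w) * x₀ := by rw [e]
        _ = w * x₀ := by group
    exact hα _ (Q.mul_mem (Q.inv_mem hx₀) hx) (LargeBad.comm_mul h hw (Q.inv_mem hx₀) hx hn' hn)
  rcases key x₀ hx₀ hn₀ with e | e
  · left
    intro x hx
    by_cases hxw : x * w = w * x
    · exact hα x hx hxw
    · have h1 := hcos x hx hxw
      rw [map_mul, map_inv, e] at h1
      exact mul_left_cancel h1
  · right
    intro x hx
    by_cases hxw : x * w = w * x
    · rw [hα x hx hxw, ← hxw, mul_inv_cancel_right]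
    · have h1 := hcos x hx hxw
      rw [map_mul, map_inv, e] at h1
      have h2 : α x = x * z := by
        have e2 : α x = x₀ * z * (x₀⁻¹ * x) := by rw [← h1]; group
        rw [e2]
        calc x₀ * z * (x₀⁻¹ * x) = (x₀ * z) * x₀⁻¹ * x := by group
          _ = (z * x₀) * x₀⁻¹ * x := by rw [h.comm_z x₀ hx₀]
          _ = z * x := by group
          _ = x * z := (h.comm_z x hx).symm
      have h3 : x * w = w * x * z := (h.comm x hx w hw).resolve_left hxw
      have h4 : w * x = x * w * z := by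
        rw [h3, mul_assoc _ z z, h.z_sq, mul_one]
      have hzw : z * w⁻¹ = w⁻¹ * z := (h.comm_z _ (Q.inv_mem hw)).symm
      rw [h2, h4, mul_assoc (x * w), hzw, ← mul_assoc, mul_inv_cancel_right]

/-- An element of `C(z)` centralising `C_Q(w)` is one of `1, z, w, w z`. -/
theorem mem_of_cent (h : Large Q z) {v : X} (hvz : v * z = z * v) (hw : w ∈ Q) (hww : w * w = 1) (hw1 : w ≠ 1)
    (hwz : w ≠ z) (hv : ∀ x ∈ Q, x * w = w * x → v * x = x * v) : v = 1 ∨ v = z ∨ v = w ∨ v = w * z := by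
  have hc : MulAut.conj v z = z := by rw [MulAut.conj_apply, hvz, mul_inv_cancel_right]
  rcases aut_on_Q h (MulAut.conj v) hc (fun x hx => h.conj_mem v hvz x hx) hw hww hw1 hwz
    (fun x hx hxw => by rw [MulAut.conj_apply, hv x hx hxw, mul_inv_cancel_right]) with h1 | h1
  · have h2 : ∀ x ∈ Q, v * x = x * v := fun x hx => by
      have := h1 x hx
      rw [MulAut.conj_apply, mul_inv_eq_iff_eq_mul] at this
      exact this
    rcases h.cent v (h.self v hvz h2) h2 with e | e
    · exact Or.inl e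
    · exact Or.inr (Or.inl e)
  · have hwi : w⁻¹ = w := inv_eq_of_mul_eq_one_left hww
    have h2 : ∀ x ∈ Q, (w⁻¹ * v) * x = x * (w⁻¹ * v) := fun x hx => by
      have h3 := h1 x hx
      rw [MulAut.conj_apply] at h3
      calc w⁻¹ * v * x = w⁻¹ * (v * x * v⁻¹) * v := by group
        _ = w⁻¹ * (w * x * w⁻¹) * v := by rw [h3]
        _ = x * (w⁻¹ * v) := by group
    have h3 : (w⁻¹ * v) * z = z * (w⁻¹ * v) := h2 z h.z_mem
    rcases h.cent _ (h.self _ h3 h2) h2 with e | e
    · right; right; left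
      exact (inv_mul_eq_one.1 e).symm
    · right; right; right
      rw [← e, mul_inv_cancel_left]

/-! ### The involutions which are not 2-central -/

/-- **`Bad w N` is impossible.** -/
theorem not_bad [Finite X] (h : Large Q z) (hz : Cen z) (hzT : z ∈ T) (hT : ∀ y ∈ T, ∀ g : X, g * y * g⁻¹ ∈ T)
    (hG : Gen Q z T w) (N : Subgroup X) : ¬ Bad w N := by
  intro hN
  have hww := hG.sq
  have hzN : z ∉ N := fun hz' => hN.non z hz' h.z_sq h.z_ne hz
  have hQp : IsPGroup 2 ↥(Q ⊓ centralizer ({w} : Set X)) := (isPGroup h).to_le inf_le_left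
  obtain ⟨S, hS, hQS⟩ := Cfsg.Agent.StdEven.Syl.exists_isSyl hQp inf_le_right
  have hNC : N ≤ centralizer ({w} : Set X) := fun n hn => mem_centralizer_singleton_iff.2 (hN.le n hn)
  have hCN : centralizer ({w} : Set X) ≤ normalizer (N : Set X) := by
    intro c hc
    exact Cfsg.Agent.StdEven.Syl.mem_normalizer_of_conj_le fun n hn =>
      hN.norm c (mem_centralizer_singleton_iff.1 hc) n hn
  have hV := hS.inf_normal hNC hCN
  have hSc : ∀ s ∈ S, s * w = w * s := fun s hs => mem_centralizer_singleton_iff.1 (hS.le hs)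
  have hVn : ∀ s ∈ S, ∀ v ∈ S ⊓ N, s * v * s⁻¹ ∈ S ⊓ N := fun s hs v hv =>
    mem_inf.2 ⟨S.mul_mem (S.mul_mem hs (mem_inf.1 hv).1) (S.inv_mem hs), hN.norm s (hSc s hs) v (mem_inf.1 hv).2⟩
  have hwS : w ∈ S := hQS ⟨hG.mem, mem_centralizer_singleton_iff.2 rfl⟩
  have h4 : 4 ∣ Nat.card ↥(S ⊓ N : Subgroup X) := by
    have h1 := hV.odd_relIndex
    have h2 := ((S ⊓ N).subgroupOf N).card_mul_index
    rw [Nat.card_congr (subgroupOfEquivOfLe (inf_le_right : S ⊓ N ≤ N)).toEquiv, mul_comm] at h2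
    have h3 : 4 ∣ (S ⊓ N).relIndex N * Nat.card ↥(S ⊓ N : Subgroup X) := by
      rw [show (S ⊓ N).relIndex N * Nat.card ↥(S ⊓ N : Subgroup X) = Nat.card N from h2]; exact hN.four
    exact (Nat.Coprime.dvd_mul_left (by
      have : Nat.Coprime 2 ((S ⊓ N).relIndex N) := Nat.coprime_two_left.2 h1
      exact Nat.Coprime.pow_left 2 this)).1 h3
  obtain ⟨v, hvV, hv1, hvw, hvc⟩ := exists_four hS.two inf_le_left hVn (mem_inf.2 ⟨hwS, hN.mem⟩) hww hG.ne hSc h4
  have hv := mem_inf.1 hvV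
  have hvw' : v * w = w * v := hSc v hv.1
  -- `v` centralises the roots
  have hroot : ∀ y ∈ YY Q T w, y * v = v * y := by
    rintro y ⟨hyT, hyQ, hyw, hywT⟩
    have hyS : y ∈ S := hQS ⟨hyQ, mem_centralizer_singleton_iff.2 hyw⟩
    rcases hvc y hyS with e | e
    · exact mul_inv_eq_iff_eq_mul.1 e
    · exfalso
      apply hywT
      have e1 : y * v = w * v * y := mul_inv_eq_iff_eq_mul.1 e
      have e2 : v * y * v⁻¹ = y * w := by
        rw [mul_inv_eq_iff_eq_mul]
        calc v * y = (w * w) * (v * y) := by rw [hww, one_mul]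
          _ = w * (w * v * y) := by group
          _ = w * (y * v) := by rw [e1]
          _ = (w * y) * v := by group
          _ = y * w * v := by rw [hyw]
      rw [← e2]
      exact hT y hyT v
  have hvz : v * z = z * v := (hroot z ⟨hzT, h.z_mem, (h.comm_z w hG.mem).symm, hG.zw⟩).symm
  have hcl : closure (YY Q T w ∪ {w, z}) ≤ centralizer ({v} : Set X) := by
    rw [closure_le]
    rintro y (hy | rfl | rfl)
    · exact mem_centralizer_singleton_iff.2 (hroot y hy)
    · exact mem_centralizer_singleton_iff.2 hvw'.symm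
    · exact mem_centralizer_singleton_iff.2 hvz.symm
  have hcent : ∀ x ∈ Q, x * w = w * x → v * x = x * v := fun x hx hxw =>
    (mem_centralizer_singleton_iff.1 (hcl (hG.gen x hx hxw))).symm
  rcases mem_of_cent h hvz hG.mem hww hG.ne hG.nez hcent with e | e | e | e
  · exact hv1 e
  · exact hzN (e ▸ hv.2)
  · exact hvw e
  · apply hzN
    have e1 : z = w⁻¹ * v := by rw [e, inv_mul_cancel_left]
    rw [e1]
    exact mul_mem (inv_mem hN.mem) hv.2

/-! ### Automorphisms -/

/-- An involutory automorphism which fixes or multiplies by `w` every element of `C(w)` is inner. -/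
theorem inn_of [Finite X] {P : Subgroup X} (h : Large Q z) (hE : Sheet.SheetE z P Q) (hzT : z ∈ T)
    (hG : Gen Q z T w) (α : MulAut X) (hTα : ∀ y ∈ T, α y ∈ T) (h2 : α * α = 1) (hαw : α w = w)
    (hα : ∀ c : X, c * w = w * c → α c = c ∨ α c = w * c) : Inn α := by
  have hroot : ∀ y ∈ YY Q T w, α y = y := by
    rintro y ⟨hyT, hyQ, hyw, hywT⟩
    rcases hα y hyw with e | e
    · exact e
    · exfalso
      apply hywT
      rw [hyw, ← e]
      exact hTα y hyT
  have hzz : α z = z := hroot z ⟨hzT, h.z_mem, (h.comm_z w hG.mem).symm, hG.zw⟩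
  have hfix : ∀ x ∈ Q, x * w = w * x → α x = x := by
    intro x hx hxw
    have h1 : closure (YY Q T w ∪ {w, z}) ≤ MonoidHom.eqLocus α.toMonoidHom (MonoidHom.id X) := by
      rw [closure_le]
      rintro y (hy | rfl | rfl)
      · exact hroot y hy
      · exact hαw
      · exact hzz
    exact h1 (hG.gen x hx hxw)
  have hP : ∀ x ∈ P, α x ∈ P := fun x hx => Sheet.map_P hE.perf hE.cen hE.der α hzz hx
  -- `α` preserves `Q`
  have hαQ : ∀ x ∈ Q, α x ∈ Q := by
    have hle : Q.map α.toMonoidHom ≤ Q := by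
      apply hE.Rmax
      · rintro _ ⟨r, hr, rfl⟩
        exact hP r (hE.RP hr)
      · exact hE.R2.map _
      · rintro x hx _ ⟨r, hr, rfl⟩
        refine ⟨α x * r * (α x)⁻¹, hE.Rn _ (hP x hx) r hr, ?_⟩
        have e : ∀ y : X, α (α y) = y := fun y => by
          have := DFunLike.congr_fun h2 y
          exact this
        show α (α x * r * (α x)⁻¹) = x * α r * x⁻¹
        rw [map_mul, map_mul, map_inv, e]
    intro x hx
    exact hle ⟨x, hx, rfl⟩
  -- automorphisms trivial on `Q`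
  have htriv : ∀ β : MulAut X, β * β = 1 → (∀ x ∈ Q, β x = x) → Inn β := by
    intro β hβ2 hβ
    have hβz := hβ z h.z_mem
    obtain ⟨r, -, hr⟩ := hE.aut β (isPGroup_zpowers_of_sq hβ2) hβz (by
      intro x hx
      apply hE.cR _ (P.mul_mem (P.inv_mem hx) (Sheet.map_P hE.perf hE.cen hE.der β hβz hx))
      intro r hr
      have h1 : β x * r * (β x)⁻¹ = x * r * x⁻¹ := by
        have h3 : β (x * r * x⁻¹) = x * r * x⁻¹ := hβ _ (hE.Rn x hx r hr)
        rw [map_mul, map_mul, map_inv, hβ r hr] at h3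
        exact h3
      calc x⁻¹ * β x * r = x⁻¹ * (β x * r * (β x)⁻¹) * β x := by group
        _ = x⁻¹ * (x * r * x⁻¹) * β x := by rw [h1]
        _ = r * (x⁻¹ * β x) := by group)
    exact ⟨r, hr⟩
  rcases aut_on_Q h α hzz hαQ hG.mem hG.sq hG.ne hG.nez hfix with h1 | h1
  · exact htriv α h2 h1
  · have hwi : w⁻¹ = w := inv_eq_of_mul_eq_one_left hG.sq
    obtain ⟨k, hk⟩ := htriv ((MulAut.conj w)⁻¹ * α) (by
      have e1 : α * (MulAut.conj w)⁻¹ = (MulAut.conj w)⁻¹ * α := by
        ext x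
        show α ((MulAut.conj w)⁻¹ x) = (MulAut.conj w)⁻¹ (α x)
        rw [← map_inv, MulAut.conj_apply, MulAut.conj_apply, map_mul, map_mul, hwi, map_inv, hαw, hwi]
      have e2 : (MulAut.conj w)⁻¹ * (MulAut.conj w)⁻¹ = (1 : MulAut X) := by
        rw [← map_inv, ← map_mul, hwi, hG.sq, map_one]
      calc (MulAut.conj w)⁻¹ * α * ((MulAut.conj w)⁻¹ * α)
          = (MulAut.conj w)⁻¹ * (α * (MulAut.conj w)⁻¹) * α := by group
        _ = ((MulAut.conj w)⁻¹ * (MulAut.conj w)⁻¹) * (α * α) := by rw [e1]; group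
        _ = 1 := by rw [e2, h2, one_mul]) (by
      intro x hx
      show (MulAut.conj w)⁻¹ (α x) = x
      rw [h1 x hx, ← map_inv, MulAut.conj_apply]
      group)
    refine ⟨w * k, ?_⟩
    rw [map_mul, ← hk, mul_inv_cancel_left]

/-! ### The sheet -/

theorem bad_conj {a k : X} {N : Subgroup X} (h : Bad a N) :
    Bad (k * a * k⁻¹) (N.map (MulAut.conj k : X ≃* X).toMonoidHom) := by
  have hc : ∀ c : X, c * (k * a * k⁻¹) = k * a * k⁻¹ * c → (k⁻¹ * c * k) * a = a * (k⁻¹ * c * k) := by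
    intro c hc
    calc (k⁻¹ * c * k) * a = k⁻¹ * (c * (k * a * k⁻¹)) * k := by group
      _ = k⁻¹ * (k * a * k⁻¹ * c) * k := by rw [hc]
      _ = a * (k⁻¹ * c * k) := by group
  refine ⟨?_, ?_, ⟨a, h.mem, rfl⟩, ?_, ?_, ?_, ?_⟩
  · calc k * a * k⁻¹ * (k * a * k⁻¹) = k * (a * a) * k⁻¹ := by group
      _ = 1 := by rw [h.sq]; group
  · intro e
    apply h.ne
    calc a = k⁻¹ * (k * a * k⁻¹) * k := by group
      _ = 1 := by rw [e]; group
  · rintro _ ⟨n, hn, rfl⟩
    show k * n * k⁻¹ * (k * a * k⁻¹) = k * a * k⁻¹ * (k * n * k⁻¹)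
    calc k * n * k⁻¹ * (k * a * k⁻¹) = k * (n * a) * k⁻¹ := by group
      _ = k * (a * n) * k⁻¹ := by rw [h.le n hn]
      _ = _ := by group
  · rintro c hc' _ ⟨n, hn, rfl⟩
    refine ⟨(k⁻¹ * c * k) * n * (k⁻¹ * c * k)⁻¹, h.norm _ (hc c hc') n hn, ?_⟩
    show k * ((k⁻¹ * c * k) * n * (k⁻¹ * c * k)⁻¹) * k⁻¹ = c * (k * n * k⁻¹) * c⁻¹
    group
  · have h5 : Nat.card ↥(N.map (MulAut.conj k : X ≃* X).toMonoidHom) = Nat.card ↥N :=
      (Nat.card_congr (N.equivMapOfInjective (MulAut.conj k : X ≃* X).toMonoidHom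
        (MulAut.conj k : X ≃* X).injective).toEquiv).symm
    rw [h5]; exact h.four
  · rintro _ ⟨b, hb, rfl⟩ hbb hb1 hcen
    have h5 : (MulAut.conj k : X ≃* X).toMonoidHom b = k * b * k⁻¹ := rfl
    rw [h5] at hbb hb1 hcen
    refine h.non b hb ?_ ?_ ?_
    · calc b * b = k⁻¹ * (k * b * k⁻¹ * (k * b * k⁻¹)) * k := by group
        _ = 1 := by rw [hbb]; group
    · rintro rfl
      exact hb1 (by group)
    · exact cen_conj (z := k * b * k⁻¹) (g := k⁻¹) (by group) hcen

/-- **The sheet.** -/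
theorem sheet [Finite X] {P : Subgroup X} (h : Large Q z) (hE : Sheet.SheetE z P Q) (hzT : z ∈ T)
    (hT : ∀ α : MulAut X, ∀ y ∈ T, α y ∈ T)
    (hgen : ∀ w : X, w * w = 1 → w ≠ 1 → ¬ Cen w → ∃ g : X, Gen Q z T (g * w * g⁻¹))
    (hbal : ∀ a : X, orderOf a = 2 → Cfsg.centralizerPPrimeCore 2 a = ⊥) : Spor.Sheet X := by
  refine Sheet.of_basic_tab hE.basic ?_ ?_ (tab_of_not_bad ?_)
  · intro a ha ha1
    exact bal_of_core (hbal a (orderOf_eq_prime (by rw [pow_two]; exact ha) ha1))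
  · intro α hα h2 w hw hw1 hwc hαw hαc N _ _ _ _
    obtain ⟨g, hG⟩ := hgen w hw hw1 hwc
    apply hα
    -- the conjugate automorphism
    have hβ : Inn (MulAut.conj g * α * (MulAut.conj g)⁻¹) := by
      refine inn_of h hE hzT hG _ (hT _) ?_ ?_ ?_
      · calc MulAut.conj g * α * (MulAut.conj g)⁻¹ * (MulAut.conj g * α * (MulAut.conj g)⁻¹)
            = MulAut.conj g * (α * α) * (MulAut.conj g)⁻¹ := by group
          _ = 1 := by rw [h2, mul_one, mul_inv_cancel]
      · show MulAut.conj g (α ((MulAut.conj g)⁻¹ (g * w * g⁻¹))) = g * w * g⁻¹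
        have e : (MulAut.conj g)⁻¹ (g * w * g⁻¹) = w := by
          rw [← map_inv, MulAut.conj_apply]; group
        rw [e, hαw, MulAut.conj_apply]
      · intro c hc
        have hc' : (g⁻¹ * c * g) * w = w * (g⁻¹ * c * g) := by
          calc (g⁻¹ * c * g) * w = g⁻¹ * (c * (g * w * g⁻¹)) * g := by group
            _ = g⁻¹ * (g * w * g⁻¹ * c) * g := by rw [hc]
            _ = w * (g⁻¹ * c * g) := by group
        have e : (MulAut.conj g * α * (MulAut.conj g)⁻¹) c = g * α (g⁻¹ * c * g) * g⁻¹ := by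
          show MulAut.conj g (α ((MulAut.conj g)⁻¹ c)) = _
          rw [← map_inv, MulAut.conj_apply, MulAut.conj_apply, inv_inv]
        rw [e]
        rcases hαc _ hc' with e1 | e1
        · left; rw [e1]; group
        · right; rw [e1]; group
    obtain ⟨k, hk⟩ := hβ
    refine ⟨g⁻¹ * k * g, ?_⟩
    have e : α = (MulAut.conj g)⁻¹ * (MulAut.conj g * α * (MulAut.conj g)⁻¹) * MulAut.conj g := by group
    rw [e, hk, ← map_inv, ← map_mul, ← map_mul]
  · intro w N hN
    by_cases hwc : Cen w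
    · exact hN.non w hN.mem hN.sq hN.ne hwc
    · obtain ⟨g, hG⟩ := hgen w hN.sq hN.ne hwc
      exact not_bad h (cen_z hE.basic) hzT (fun y hy k => by
        have := hT (MulAut.conj k) y hy
        rwa [MulAut.conj_apply] at this) hG _ (bad_conj (k := g) hN)

end Cfsg.Agent.OddHalf.D4.TwE.Core
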